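import Groth.Agent.VarDim.Local
import Groth.Agent.VarDim.Top
import Mathlib.RingTheory.Ideal.KrullsHeightTheorem

/-!
A curve through a closed point of a variety leaving a closed subset (extracted from `AVTors.CurveThru`).
-/

noncomputable section

set_option linter.style.haveILetI false
set_option linter.unusedSectionVars false
set_option backward.isDefEq.respectTransparency false
set_option backward.isDefEq.respectTransparency.types false
set_option maxHeartbeats 1000000
set_option autoImplicit false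

universe u

open CategoryTheory AlgebraicGeometry TopologicalSpace Order

namespace Groth.Agent.CurveLift12

/-- A prime immediately below a given one avoiding a given element. -/
theorem exists_covBy_not_mem {A : Type u} [CommRing A] [IsDomain A] [IsNoetherianRing A]
    (m : PrimeSpectrum A) {a : A} (ha0 : a ≠ 0) (ham : a ∈ m.asIdeal) :
    ∃ P : PrimeSpectrum A, P ⋖ m ∧ a ∉ P.asIdeal := by
  obtain ⟨P, ⟨hP, hPm, haP⟩, hmax⟩ := (wellFounded_gt (α := Ideal A)).has_min
    {q : Ideal A | q.IsPrime ∧ q ≤ m.asIdeal ∧ a ∉ q} ⟨⊥, Ideal.isPrime_bot, bot_le, by simpa using ha0⟩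
  refine ⟨⟨P, hP⟩, ⟨lt_of_le_of_ne hPm fun h => haP (by
    rw [show P = m.asIdeal from congrArg PrimeSpectrum.asIdeal h]; exact ham), fun r h1 h2 => ?_⟩, haP⟩
  have hmem : ∀ q : Ideal A, q.IsPrime → P < q → q ≤ m.asIdeal → a ∈ q := fun q hq h h' => by
    by_contra hc
    exact hmax q ⟨hq, h', hc⟩ h
  -- pass to the quotient
  let B := A ⧸ P
  let π := Ideal.Quotient.mk P
  have hsur : Function.Surjective π := Ideal.Quotient.mk_surjective
  have hker : RingHom.ker π = P := Ideal.mk_ker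
  let M := m.asIdeal.map π
  haveI hM : M.IsPrime := Ideal.map_isPrime_of_surjective hsur (hker.le.trans hPm)
  let R := r.asIdeal.map π
  have hPr : P < r.asIdeal := h1
  haveI hR : R.IsPrime := Ideal.map_isPrime_of_surjective hsur (hker.le.trans hPr.le)
  have hcR : R.comap π = r.asIdeal := by
    rw [Ideal.comap_map_of_surjective π hsur, ← RingHom.ker_eq_comap_bot, hker, sup_eq_left.2 hPr.le]
  have hcM : M.comap π = m.asIdeal := by
    rw [Ideal.comap_map_of_surjective π hsur, ← RingHom.ker_eq_comap_bot, hker, sup_eq_left.2 hPm]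
  have hRbot : R ≠ ⊥ := fun h => hPr.ne (by rw [← hcR, h, ← RingHom.ker_eq_comap_bot, hker])
  have hRM : R < M := by
    refine lt_of_le_of_ne (Ideal.map_mono h2.le) fun h => h2.ne ?_
    refine PrimeSpectrum.ext ?_
    rw [← hcR, h, hcM]
  have hmem' : ∀ q : Ideal B, q.IsPrime → q ≠ ⊥ → q ≤ M → π a ∈ q := fun q hq hq0 hqM => by
    refine hmem (q.comap π) (Ideal.IsPrime.comap π) (lt_of_le_of_ne ?_ ?_) (hcM ▸ Ideal.comap_mono hqM)
    · exact hker.ge.trans (Ideal.comap_mono (bot_le (a := q)))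
    · exact fun h => hq0 (by rw [← Ideal.map_comap_of_surjective π hsur q, ← h, Ideal.map_quotient_self])
  have haB : π a ≠ 0 := fun h => haP (Ideal.Quotient.eq_zero_iff_mem.1 h)
  have hfin := Ideal.finite_minimalPrimes_of_isNoetherianRing B (Ideal.span {π a})
  by_cases hsub : (M : Set B) ⊆ ⋃ q ∈ hfin.toFinset, (q : Set B)
  · obtain ⟨q, hq, hMq⟩ := (Ideal.subset_union_prime ⊥ ⊥ fun q hq _ _ =>
      ((Set.Finite.mem_toFinset _).1 hq).1.1).1 hsub
    rw [Set.Finite.mem_toFinset] at hq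
    have h3 : q ≤ R := hq.2 ⟨hR, by
      rw [Ideal.span_singleton_le_iff_mem]; exact hmem' R hR hRbot hRM.le⟩ (hRM.le.trans hMq)
    exact hRM.not_ge (hMq.trans h3)
  · obtain ⟨b, hbM, hb⟩ := Set.not_subset.1 hsub
    obtain ⟨q, hq, hqM⟩ := Ideal.exists_minimalPrimes_le (J := M) (I := Ideal.span {b})
      (by rwa [Ideal.span_singleton_le_iff_mem])
    haveI := hq.1.1
    have hbq : b ∈ q := hq.1.2 (Ideal.mem_span_singleton_self b)
    have hq1 : q.height ≤ 1 := Ideal.height_le_one_of_isPrincipal_of_mem_minimalPrimes (Ideal.span {b}) q hq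
    have hb0 : b ≠ 0 := by
      rintro rfl
      obtain ⟨q₀, hq₀, -⟩ := Ideal.exists_minimalPrimes_le (J := M) (I := Ideal.span {π a})
        (by rw [Ideal.span_singleton_le_iff_mem]; exact hmem' M hM (ne_bot_of_le_ne_bot hRbot hRM.le) le_rfl)
      exact hb (Set.mem_biUnion ((Set.Finite.mem_toFinset hfin).2 hq₀) q₀.zero_mem)
    obtain ⟨q', hq', hq'q⟩ := Ideal.exists_minimalPrimes_le (J := q) (I := Ideal.span {π a})
      (by rw [Ideal.span_singleton_le_iff_mem]; exact hmem' q hq.1.1 (fun h => hb0 (by simpa [h] using hbq)) hqM)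
    haveI := hq'.1.1
    have hq'0 : q' ≠ ⊥ := fun h => haB (by simpa [h] using hq'.1.2 (Ideal.mem_span_singleton_self _))
    refine hb (Set.mem_biUnion ((Set.Finite.mem_toFinset hfin).2 hq') ?_)
    by_contra hbq'
    have hlt : q' < q := lt_of_le_of_ne hq'q fun h => hbq' (by rw [h]; exact hbq)
    haveI : (⊥ : Ideal B).IsPrime := Ideal.isPrime_bot
    have e1 := Ideal.height_strict_mono_of_isPrime (bot_lt_iff_ne_bot.2 hq'0 : (⊥ : Ideal B) < q')
    have e2 := Ideal.height_strict_mono_of_isPrime hlt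
    exact absurd ((Order.add_one_le_of_lt e2).trans hq1)
      (not_le.2 (by
        have : (1 : ℕ∞) ≤ q'.height := Order.one_le_iff_pos.2 (lt_of_le_of_lt zero_le e1)
        exact lt_of_lt_of_le (by norm_num) (add_le_add_left this 1)))

variable {k : Type u} [Field k] {X : Over (Spec (CommRingCat.of k))} [IsIntegral X.left]
  [LocallyOfFiniteType X.hom]

/-- A curve through a closed point leaving a given proper closed subset. -/
theorem exists_curve_leaving {x : X.left} (hx : IsClosed ({x} : Set X.left)) {Z : Set X.left} (hZc : IsClosed Z)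
    (hZ : Z ≠ Set.univ) (hxZ : x ∈ Z) : ∃ ξ : X.left, ξ ⤳ x ∧ VarDim.deg X.hom ξ = 1 ∧ ξ ∉ Z := by
  obtain ⟨U, hU, hxU, -⟩ := exists_isAffineOpen_mem_and_subset (x := x) (U := ⊤) trivial
  obtain ⟨m, rfl⟩ := VarDim.exists_fromSpec_eq hU hxU
  obtain ⟨_, hft⟩ := VarDim.exists_algebra X.hom hU
  haveI : IsNoetherianRing Γ(X.left, U) := Algebra.FiniteType.isNoetherianRing k _
  haveI : Nonempty U := ⟨⟨_, hxU⟩⟩
  obtain ⟨I, hI⟩ := (PrimeSpectrum.isClosed_iff_zeroLocus_ideal (hU.fromSpec ⁻¹' Z)).1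
    (hZc.preimage hU.fromSpec.continuous)
  have hI0 : I ≠ ⊥ := by
    rintro rfl
    rw [Submodule.bot_coe, PrimeSpectrum.zeroLocus_singleton_zero] at hI
    refine hZ (hZc.closure_eq ▸ Set.eq_univ_of_univ_subset ?_)
    rw [← (U.2.dense ⟨_, hxU⟩).closure_eq]
    refine closure_mono fun y hy => ?_
    obtain ⟨p, rfl⟩ := VarDim.exists_fromSpec_eq hU hy
    exact hI.ge (Set.mem_univ p)
  obtain ⟨a, haI, ha0⟩ := Submodule.exists_mem_ne_zero_of_ne_bot hI0
  obtain ⟨P, hPm, haP⟩ := exists_covBy_not_mem m ha0 ((hI.le (show m ∈ hU.fromSpec ⁻¹' Z from hxZ)) haI)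
  refine ⟨hU.fromSpec P, (VarDim.fromSpec_specializes_iff hU P m).2 hPm.1.le, ?_, fun h => haP (hI.le h haI)⟩
  have h1 := VarDim.coheight_of_covBy k hPm
  have h2 := (VarDim.closedPoint_iff_deg_eq_zero X.hom _).1 hx
  rw [VarDim.deg_eq_coheight X.hom hU, VarDim.deg_eq_coheight X.hom hU, h2] at h1
  exact_mod_cast h1


end Groth.Agent.CurveLift12
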